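import Cfsg.Agent.Lib.Helper3.ModRep.Defs
import Cfsg.Agent.Lib.Helper76.PRegular

/-!
# MODREP-[BR1K] (hedge, helper80): reduced irreducible characters only see the `p'`-part.
-/

set_option autoImplicit false

namespace Cfsg.Agent.Lib.Helper80.ModRep

open Cfsg Cfsg.Agent.Lib.Helper16 Cfsg.Agent.Lib.Helper3.ModRep

variable {G : Type*} [Group G] [Finite G] (p : ℕ) (M : Ideal AlgInt) [hMp : M.IsPrime]

/-- **MODREP-[BR1K]** (exact sheet statement, hedge name). -/
theorem chiBar_mul_pElement_h80 (hM : IsPModular p M) (χ : IrrCharacter G) (x y : G)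
    (hxy : Commute x y) (hx : ∃ j : ℕ, orderOf x = p ^ j) (hy : ¬ p ∣ orderOf y) :
    chiBar M (χ : G → ℂ) (x * y) = chiBar M (χ : G → ℂ) y := by
  have hpart : IsPPart p (x * y) x := ⟨y, rfl, hxy, hx, hy⟩
  have h1 := Cfsg.Agent.Lib.Helper76.memLocalIdeal_irr_sub_pPart p M hM χ (x * y) x hpart
  have h2 : x⁻¹ * (x * y) = y := by group
  rw [h2] at h1
  unfold chiBar
  exact (redC_eq_iff
    (memLocalRing_of_isIntegral hMp.ne_top (Cfsg.Agent.Lib.Helper76.irr_isIntegral χ (x * y)))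
    (memLocalRing_of_isIntegral hMp.ne_top (Cfsg.Agent.Lib.Helper76.irr_isIntegral χ y))).mpr h1

end Cfsg.Agent.Lib.Helper80.ModRep
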